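import Mathlib

/-!
Filtered colimits of sheaves on a quasi-compact site are computed objectwise.
-/

universe u

set_option autoImplicit false
set_option maxHeartbeats 400000

open CategoryTheory CategoryTheory.Limits Opposite

namespace Groth.Agent.QCSite9

variable {C : Type u} [SmallCategory C] [HasPullbacks C] {J : GrothendieckTopology C}
  {I : Type u} [SmallCategory I] [IsFiltered I]

theorem exists_stage {X : C} (G : I ⥤ Cᵒᵖ ⥤ Type u) {c : Cocone G} (hc : IsColimit c) (z : c.pt.obj (op X)) :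
    ∃ (i : I) (z' : (G.obj i).obj (op X)), (c.ι.app i).app (op X) z' = z :=
  Types.jointly_surjective _ (isColimitOfPreserves ((evaluation Cᵒᵖ (Type u)).obj (op X)) hc) z

theorem eventually_eq {X : C} (G : I ⥤ Cᵒᵖ ⥤ Type u) {c : Cocone G} (hc : IsColimit c) {i : I}
    (a b : (G.obj i).obj (op X)) (h : (c.ι.app i).app (op X) a = (c.ι.app i).app (op X) b) :
    ∃ (j : I) (f : i ⟶ j), (G.map f).app (op X) a = (G.map f).app (op X) b :=
  (Types.FilteredColimit.isColimit_eq_iff' (isColimitOfPreserves ((evaluation Cᵒᵖ (Type u)).obj (op X)) hc) a b).1 h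

omit [HasPullbacks C] [IsFiltered I] in
theorem map_map {X : C} (G : I ⥤ Cᵒᵖ ⥤ Type u) {i j k : I} (f : i ⟶ j) (g : j ⟶ k) (a : (G.obj i).obj (op X)) :
    (G.map (f ≫ g)).app (op X) a = (G.map g).app (op X) ((G.map f).app (op X) a) := by
  rw [G.map_comp]; rfl

omit [HasPullbacks C] [IsFiltered I] in
theorem ι_map {X : C} (G : I ⥤ Cᵒᵖ ⥤ Type u) (c : Cocone G) {i j : I} (f : i ⟶ j) (a : (G.obj i).obj (op X)) :
    (c.ι.app j).app (op X) ((G.map f).app (op X) a) = (c.ι.app i).app (op X) a :=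
  ConcreteCategory.congr_hom (NatTrans.congr_app (c.w f) (op X)) a

/-- finitely many equalities of germs hold at one stage -/
theorem common_stage {κ : Type*} [Finite κ] (G : I ⥤ Cᵒᵖ ⥤ Type u) {c : Cocone G} (hc : IsColimit c) {i : I}
    (X : κ → C) (a b : ∀ k, (G.obj i).obj (op (X k)))
    (h : ∀ k, (c.ι.app i).app _ (a k) = (c.ι.app i).app _ (b k)) :
    ∃ (j : I) (f : i ⟶ j), ∀ k, (G.map f).app _ (a k) = (G.map f).app _ (b k) := by
  classical
  haveI := Fintype.ofFinite κ
  suffices ∀ s : Finset κ, ∃ (j : I) (f : i ⟶ j), ∀ k ∈ s, (G.map f).app _ (a k) = (G.map f).app _ (b k) by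
    obtain ⟨j, f, hf⟩ := this Finset.univ
    exact ⟨j, f, fun k => hf k (Finset.mem_univ k)⟩
  intro s
  induction s using Finset.induction_on with
  | empty => exact ⟨i, 𝟙 i, fun k hk => absurd hk (Finset.notMem_empty k)⟩
  | insert k₀ s _ ih =>
    obtain ⟨j, f, hf⟩ := ih
    obtain ⟨j', g, hg⟩ := eventually_eq G hc _ _ ((ι_map G c f (a k₀)).trans ((h k₀).trans (ι_map G c f (b k₀)).symm))
    refine ⟨j', f ≫ g, fun k hk => ?_⟩
    rw [map_map, map_map]
    rcases Finset.mem_insert.1 hk with rfl | hk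
    · exact hg
    · exact congrArg _ (hf k hk)

theorem isSheaf_colimit
    (hqc : ∀ X : C, ∀ S ∈ J X, ∃ (n : ℕ) (V : Fin n → C) (g : ∀ k, V k ⟶ X), (∀ k, S (g k)) ∧ Sieve.ofArrows V g ∈ J X)
    (G : I ⥤ Cᵒᵖ ⥤ Type u) (hG : ∀ i, Presieve.IsSheaf J (G.obj i)) {c : Cocone G} (hc : IsColimit c) :
    Presieve.IsSheaf J c.pt := by
  have sep : ∀ {X : C} {n : ℕ} (V : Fin n → C) (g : ∀ k, V k ⟶ X), Sieve.ofArrows V g ∈ J X →
      ∀ x y : c.pt.obj (op X), (∀ k, c.pt.map (g k).op x = c.pt.map (g k).op y) → x = y := by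
    intro X n V g hg x y hxy
    obtain ⟨i₁, x₁, rfl⟩ := exists_stage G hc x
    obtain ⟨i₂, y₁, rfl⟩ := exists_stage G hc y
    rw [← ι_map G c (IsFiltered.leftToMax i₁ i₂) x₁, ← ι_map G c (IsFiltered.rightToMax i₁ i₂) y₁] at hxy ⊢
    obtain ⟨j, f, hf⟩ := common_stage G hc V
      (fun k => (G.obj _).map (g k).op ((G.map (IsFiltered.leftToMax i₁ i₂)).app _ x₁))
      (fun k => (G.obj _).map (g k).op ((G.map (IsFiltered.rightToMax i₁ i₂)).app _ y₁))
      (fun k => (NatTrans.naturality_apply (c.ι.app _) _ _).trans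
        ((hxy k).trans (NatTrans.naturality_apply (c.ι.app _) _ _).symm))
    rw [← ι_map G c f, ← ι_map G c f ((G.map _).app _ y₁)]
    congr 1
    refine (hG j _ hg).isSeparatedFor.ext ?_
    rintro W _ ⟨_, t, _, ⟨k⟩, rfl⟩
    rw [op_comp, Functor.map_comp_apply, Functor.map_comp_apply, ← NatTrans.naturality_apply (G.map f) (g k).op,
      ← NatTrans.naturality_apply (G.map f) (g k).op]
    exact congrArg _ (hf k)
  intro X S hS x hx
  obtain ⟨n, V, g, hgS, hg⟩ := hqc X S hS
  obtain ⟨i₀, hi₀⟩ : ∃ i : I, ∀ k, ∃ a : (G.obj i).obj (op (V k)), (c.ι.app i).app _ a = x (g k) (hgS k) := by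
    classical
    choose s a ha using fun k => exists_stage G hc (x (g k) (hgS k))
    obtain ⟨i, hi⟩ := IsFiltered.sup_objs_exists (Finset.univ.image s)
    refine ⟨i, fun k => ?_⟩
    obtain ⟨f⟩ := hi (Finset.mem_image_of_mem s (Finset.mem_univ k))
    exact ⟨_, (ι_map G c f (a k)).trans (ha k)⟩
  choose a ha using hi₀
  obtain ⟨j, f, hf⟩ := common_stage G hc (fun p : Fin n × Fin n => pullback (g p.1) (g p.2))
    (fun p => (G.obj i₀).map (pullback.fst (g p.1) (g p.2)).op (a p.1))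
    (fun p => (G.obj i₀).map (pullback.snd (g p.1) (g p.2)).op (a p.2))
    (fun p => by
      rw [NatTrans.naturality_apply, NatTrans.naturality_apply, ha, ha]
      exact hx _ _ _ _ pullback.condition)
  have h1 : Presieve.IsSheafFor (G.obj j) (Presieve.ofArrows V g) := by
    have := hG j (Sieve.generate (Presieve.ofArrows V g)) hg
    rwa [← Presieve.isSheafFor_iff_generate] at this
  rw [Presieve.isSheafFor_arrows_iff] at h1
  obtain ⟨z, hz, -⟩ := h1 (fun k => (G.map f).app _ (a k)) (fun k l W p q h => by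
    have e := congrArg ((G.obj j).map (pullback.lift p q h).op) (hf (k, l))
    simp only [NatTrans.naturality_apply, ← Functor.map_comp_apply, ← op_comp, pullback.lift_fst,
      pullback.lift_snd] at e
    exact e)
  have hzk : ∀ k, c.pt.map (g k).op ((c.ι.app j).app _ z) = x (g k) (hgS k) := fun k => by
    refine (NatTrans.naturality_apply (c.ι.app j) (g k).op z).symm.trans ?_
    rw [hz k, ι_map, ha]
  refine ⟨(c.ι.app j).app _ z, fun W h hh => ?_, fun y hy => sep V g hg _ _ fun k => (hy _ (hgS k)).trans (hzk k).symm⟩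
  obtain ⟨m, V', g', hV', hg'⟩ := hqc W _ (J.pullback_stable h hg)
  refine sep V' g' hg' _ _ fun l => ?_
  obtain ⟨_, t, _, ⟨k⟩, ht⟩ := hV' l
  rw [← Functor.map_comp_apply, ← op_comp, ← ht, op_comp, Functor.map_comp_apply, hzk k]
  exact hx t (g' l) (hgS k) hh ht

theorem preservesFiltered
    (hqc : ∀ X : C, ∀ S ∈ J X, ∃ (n : ℕ) (V : Fin n → C) (g : ∀ k, V k ⟶ X), (∀ k, S (g k)) ∧ Sieve.ofArrows V g ∈ J X) :
    PreservesColimitsOfShape I (sheafToPresheaf J (Type u)) := by
  refine ⟨fun {K} => ?_⟩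
  let c := colimit.cocone (K ⋙ sheafToPresheaf J (Type u))
  have hsh : Presheaf.IsSheaf J c.pt := (isSheaf_iff_isSheaf_of_type _ _).2
    (isSheaf_colimit hqc _ (fun i => (isSheaf_iff_isSheaf_of_type _ _).1 (K.obj i).property) (colimit.isColimit _))
  let c' : Cocone K :=
    { pt := ⟨c.pt, hsh⟩
      ι := { app := fun i => ⟨c.ι.app i⟩
             naturality := fun i j f => (sheafToPresheaf J (Type u)).map_injective (c.ι.naturality f) } }
  have h : IsColimit ((sheafToPresheaf J (Type u)).mapCocone c') :=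
    (colimit.isColimit _).ofIsoColimit (Cocone.ext (Iso.refl _) fun i => Category.comp_id _)
  exact preservesColimit_of_preserves_colimit_cocone (isColimitOfReflects (sheafToPresheaf J (Type u)) h) h

end Groth.Agent.QCSite9
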